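import Groth.Agent.ClosedUnion.Patch
import Groth.Agent.TorCov.Basic
import Groth.Agent.PicGlue.Glue
import Mathlib.AlgebraicGeometry.Morphisms.ClosedImmersion

/-!
Invertible modules on the union of two closed subschemes.
-/

set_option autoImplicit false
set_option linter.style.haveILetI false
set_option linter.unusedSectionVars false
set_option backward.isDefEq.respectTransparency false
set_option backward.isDefEq.respectTransparency.types false

universe u

open CategoryTheory AlgebraicGeometry TopologicalSpace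

namespace Groth.Agent.ClosedUnion

open Groth.Agent Groth.Agent.AModX

variable {X Y Z W B : Scheme.{u}} {a : Y ⟶ X} {b : Z ⟶ X} {i : W ⟶ Y} {j : W ⟶ Z} {k : W ⟶ X}
  {hi : i ≫ a = k} {hj : j ≫ b = k}

/-- Equal sections on an open without points. -/
theorem eq_of_empty {M : X.Modules} {V : X.Opens} (hV : ∀ p, p ∉ V) (x y : Γ(M, V)) : x = y :=
  eq_of_locally x y fun p hp => absurd hp (hV p)

/-- A module invertible and trivial on both parts comes from the base. -/
theorem nonempty_iso_unit (P : IsPatch hi hj) (π : X ⟶ B)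
    (hW : Function.Bijective (k ≫ π).appTop) {L : X.Modules} (hL : PicF.IsInvertible L)
    (eY : (Scheme.Modules.pullback a).obj L ≅ Coh.structureModule Y)
    (eZ : (Scheme.Modules.pullback b).obj L ≅ Coh.structureModule Z) :
    Nonempty (L ≅ Coh.structureModule X) := by
  obtain ⟨tY, htY⟩ := TorCov.exists_globalFrame eY
  obtain ⟨tZ, htZ⟩ := TorCov.exists_globalFrame eZ
  choose U hxU e he using fun x => InvX.exists_frame hL x
  choose cY hcYu hcY using fun x => TorCov.exists_pull_coord a htY (he x)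
  choose cZ hcZu hcZ using fun x => TorCov.exists_pull_coord b htZ (he x)
  have hw : ∀ x, ∃ w : Γ(W, k ⁻¹ᵁ U x), IsUnit w ∧ w * rl hj (U x) (cZ x) = rl hi (U x) (cY x) := fun x => by
    obtain ⟨c, hc⟩ := ((hcZu x).map (rl hj (U x))).exists_left_inv
    refine ⟨rl hi (U x) (cY x) * c, ?_, by rw [mul_assoc, hc, mul_one]⟩
    exact ((hcYu x).map _).mul (IsUnit.of_mul_eq_one _ hc)
  choose w hwu hwe using hw
  -- the cocycle identities
  have hco : ∀ (x y : X) (g : Γ(X, U x ⊓ U y)), res L inf_le_right (e y) = g • res L inf_le_left (e x) →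
      resR (a.preimage_mono (inf_le_right : U x ⊓ U y ≤ U y)) (cY y) =
        a.app (U x ⊓ U y) g * resR (a.preimage_mono (inf_le_left : U x ⊓ U y ≤ U x)) (cY x) ∧
      resR (b.preimage_mono (inf_le_right : U x ⊓ U y ≤ U y)) (cZ y) =
        b.app (U x ⊓ U y) g * resR (b.preimage_mono (inf_le_left : U x ⊓ U y ≤ U x)) (cZ x) :=
    fun x y g hg => ⟨TorCov.pull_coord_eq a htY (hcY x) (hcY y) hg, TorCov.pull_coord_eq b htZ (hcZ x) (hcZ y) hg⟩
  have hwc : ∀ x y, resR (k.preimage_mono (inf_le_left : U x ⊓ U y ≤ U x)) (w x) =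
      resR (k.preimage_mono (inf_le_right : U x ⊓ U y ≤ U y)) (w y) := fun x y => by
    obtain ⟨g, hg⟩ := (he x).exists_coord (inf_le_left : U x ⊓ U y ≤ U x) (res L inf_le_right (e y))
    obtain ⟨h1, h2⟩ := hco x y g hg
    have h1' := congrArg (rl hi (U x ⊓ U y)) h1
    have h2' := congrArg (rl hj (U x ⊓ U y)) h2
    rw [map_mul, rl_app, rl_resR hi (inf_le_left : U x ⊓ U y ≤ U x),
      rl_resR hi (inf_le_right : U x ⊓ U y ≤ U y)] at h1'
    rw [map_mul, rl_app, rl_resR hj (inf_le_left : U x ⊓ U y ≤ U x),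
      rl_resR hj (inf_le_right : U x ⊓ U y ≤ U y)] at h2'
    rw [← hwe x, ← hwe y, map_mul, map_mul] at h1'
    have hu : IsUnit (resR (k.preimage_mono (inf_le_right : U x ⊓ U y ≤ U y)) (rl hj (U y) (cZ y))) :=
      (((hcZu y).map _)).map _
    refine hu.mul_left_cancel ?_
    linear_combination -h1' + resR (k.preimage_mono (inf_le_left : U x ⊓ U y ≤ U x)) (w x) * h2'
  -- the unit on W comes from the base
  obtain ⟨wg, hwg, -⟩ := existsUnique_glue (M := Coh.structureModule W) (V := ⊤) (fun x => k ⁻¹ᵁ U x)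
    (fun _ => le_top) (fun p _ => ⟨k p, hxU (k p)⟩) w hwc
  let wW : Γ(W, ⊤) := wg
  have hwg' : ∀ x, resR (le_top : k ⁻¹ᵁ U x ≤ ⊤) wW = w x := hwg
  have hwgu : IsUnit wW := by
    refine RingedSpace.isUnit_of_isUnit_germ W.toRingedSpace ⊤ _ fun p _ => ?_
    have h := (hwu (k p)).map (W.presheaf.germ (k ⁻¹ᵁ U (k p)) p (hxU (k p))).hom
    rw [← hwg' (k p)] at h
    exact (congrArg IsUnit (W.presheaf.germ_res_apply (homOfLE le_top) p (hxU (k p)) _)).mp h
  obtain ⟨v, hv⟩ := hW.2 wW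
  have hvu : IsUnit v := by
    obtain ⟨w', hw'⟩ := hwgu.exists_right_inv
    obtain ⟨v', rfl⟩ := hW.2 w'
    rw [← hv, ← map_mul] at hw'
    exact IsUnit.of_mul_eq_one v' (hW.1 (hw'.trans (map_one _).symm))
  -- correct the trivialisation on Z
  let vX : Γ(X, ⊤) := π.appTop v
  let cZ' : ∀ x, Γ(Z, b ⁻¹ᵁ U x) := fun x => b.app (U x) (resR le_top vX) * cZ x
  have hr : ∀ x, rl hi (U x) (cY x) = rl hj (U x) (cZ' x) := fun x => by
    show _ = rl hj (U x) (b.app (U x) (resR le_top vX) * cZ x)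
    rw [map_mul, rl_app, ← hwe x, ← hwg' x, ← hv, app_resR' k (le_top : U x ≤ ⊤)]
    rfl
  choose f hfY hfZ using fun x => P.exists_lift (U x) (cY x) (cZ' x) (hr x)
  have hcZ'u : ∀ x, IsUnit (cZ' x) := fun x =>
    ((((hvu.map π.appTop.hom).map (resR (le_top : U x ≤ ⊤)))).map (b.app (U x)).hom).mul (hcZu x)
  have hfu : ∀ x, IsUnit (f x) := fun x =>
    P.isUnit ((hfY x).symm ▸ hcYu x) ((hfZ x).symm ▸ hcZ'u x)
  choose f' hf' using fun x => (hfu x).exists_left_inv
  refine TorCov.nonempty_iso_of_units U (fun x => ⟨x, hxU x⟩) e he f'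
    (fun x => IsUnit.of_mul_eq_one _ (hf' x)) fun x y g hg => ?_
  obtain ⟨h1, h2⟩ := hco x y g hg
  have key : resR (inf_le_right : U x ⊓ U y ≤ U y) (f y) = g * resR (inf_le_left : U x ⊓ U y ≤ U x) (f x) := by
    refine P.ext ?_ ?_
    · rw [map_mul, app_resR' a (inf_le_right : U x ⊓ U y ≤ U y), app_resR' a (inf_le_left : U x ⊓ U y ≤ U x),
        hfY, hfY]
      exact h1
    · rw [map_mul, app_resR' b (inf_le_right : U x ⊓ U y ≤ U y), app_resR' b (inf_le_left : U x ⊓ U y ≤ U x),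
        hfZ, hfZ]
      show resR _ (b.app (U y) (resR le_top vX) * cZ y) = _ * resR _ (b.app (U x) (resR le_top vX) * cZ x)
      rw [map_mul, map_mul, h2, ← app_resR' b (inf_le_right : U x ⊓ U y ≤ U y),
        ← app_resR' b (inf_le_left : U x ⊓ U y ≤ U x), resR_resR, resR_resR]
      ring
  have hy := congrArg (resR (inf_le_right : U x ⊓ U y ≤ U y)) (hf' y)
  have hx := congrArg (resR (inf_le_left : U x ⊓ U y ≤ U x)) (hf' x)
  rw [map_mul, map_one] at hx hy
  linear_combination (-(resR inf_le_right (f' y)) * g) * hx -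
      resR inf_le_right (f' y) * resR inf_le_left (f' x) * key + resR inf_le_left (f' x) * hy

/-- A frame around each point of the target of a closed immersion. -/
theorem exists_frame_preimage (a : Y ⟶ X) [IsClosedImmersion a] {M : Y.Modules} (hM : PicF.IsInvertible M)
    (x : X) : ∃ (U : X.Opens) (_ : x ∈ U) (e : Γ(M, a ⁻¹ᵁ U)), InvX.IsFrame e := by
  by_cases hx : x ∈ Set.range a
  · obtain ⟨y, rfl⟩ := hx
    obtain ⟨V, hyV, e, he⟩ := InvX.exists_frame hM y
    obtain ⟨U, hUo, hU⟩ := a.isClosedEmbedding.isEmbedding.isInducing.isOpen_iff.1 V.2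
    have hle : a ⁻¹ᵁ (⟨U, hUo⟩ : X.Opens) ≤ V := fun p hp => hU.subset hp
    refine ⟨⟨U, hUo⟩, ?_, res M hle e, he.res hle⟩
    show a y ∈ U
    exact hU.symm.subset hyV
  · refine ⟨⟨(Set.range a)ᶜ, a.isClosedEmbedding.isClosed_range.isOpen_compl⟩, hx, 0, fun V hV => ?_⟩
    have h0 : ∀ p, p ∉ V := fun p hp => (hV hp : a p ∈ (Set.range a)ᶜ) ⟨p, rfl⟩
    exact ⟨fun r r' _ => eq_of_empty (M := Coh.structureModule Y) h0 r r',
      fun m => ⟨0, eq_of_empty h0 _ _⟩⟩

/-- The pullback of a section along a factorisation. -/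
noncomputable def pl {i : W ⟶ Y} {a : Y ⟶ X} {k : W ⟶ X} (h : i ≫ a = k) {M : Y.Modules} {U : X.Opens}
    (e : Γ(M, a ⁻¹ᵁ U)) : Γ((Scheme.Modules.pullback i).obj M, k ⁻¹ᵁ U) :=
  res _ (preimage_le_of_comp h U) (InvX.pullElt i e)

theorem isFrame_pl {i : W ⟶ Y} {a : Y ⟶ X} {k : W ⟶ X} (h : i ≫ a = k) {M : Y.Modules} {U : X.Opens}
    {e : Γ(M, a ⁻¹ᵁ U)} (he : InvX.IsFrame e) : InvX.IsFrame (pl h e) :=
  (InvX.isFrame_pullElt i he).res _

theorem pl_smul {i : W ⟶ Y} {a : Y ⟶ X} {k : W ⟶ X} (h : i ≫ a = k) {M : Y.Modules} {U : X.Opens}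
    (c : Γ(Y, a ⁻¹ᵁ U)) (e : Γ(M, a ⁻¹ᵁ U)) : pl h (c • e) = rl h U c • pl h e := by
  unfold pl
  rw [InvX.pullElt_smul, res_smul]
  rfl

theorem pl_res {i : W ⟶ Y} {a : Y ⟶ X} {k : W ⟶ X} (h : i ≫ a = k) {M : Y.Modules} {U V : X.Opens}
    (hVU : V ≤ U) (e : Γ(M, a ⁻¹ᵁ U)) :
    pl h (res M (a.preimage_mono hVU) e) = res _ (k.preimage_mono hVU) (pl h e) := by
  unfold pl
  rw [← InvX.res_pullElt i (a.preimage_mono hVU), res_res, res_res]

/-- Invertible modules on the parts which agree on the intersection glue. -/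
theorem exists_glue (P : IsPatch hi hj) [IsClosedImmersion a] [IsClosedImmersion b] [IsClosedImmersion k]
    (hk : ∀ U : X.Opens, IsAffineOpen U → Function.Surjective (k.app U))
    {M : Y.Modules} (hM : PicF.IsInvertible M) {N : Z.Modules} (hN : PicF.IsInvertible N)
    (ψ : (Scheme.Modules.pullback i).obj M ≅ (Scheme.Modules.pullback j).obj N) :
    ∃ L : X.Modules, PicF.IsInvertible L ∧ Nonempty ((Scheme.Modules.pullback a).obj L ≅ M) ∧
      Nonempty ((Scheme.Modules.pullback b).obj L ≅ N) := by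
  have hloc : ∀ x : X, ∃ (U : X.Opens) (_ : x ∈ U) (eY : Γ(M, a ⁻¹ᵁ U)) (eZ : Γ(N, b ⁻¹ᵁ U)),
      InvX.IsFrame eY ∧ InvX.IsFrame eZ ∧ ψ.hom.app (k ⁻¹ᵁ U) (pl hi eY) = pl hj eZ := fun x => by
    obtain ⟨UY, hxY, eY, heY⟩ := exists_frame_preimage a hM x
    obtain ⟨UZ, hxZ, eZ, heZ⟩ := exists_frame_preimage b hN x
    obtain ⟨_, ⟨U, hU, rfl⟩, hxU, hUle⟩ := X.isBasis_affineOpens.exists_subset_of_mem_open
      (show x ∈ (UY ⊓ UZ : X.Opens) from ⟨hxY, hxZ⟩) (UY ⊓ UZ).2
    have hleY : U ≤ UY := fun p hp => (hUle hp).1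
    have hleZ : U ≤ UZ := fun p hp => (hUle hp).2
    let fY := res M (a.preimage_mono hleY) eY
    let fZ := res N (b.preimage_mono hleZ) eZ
    have hfY : InvX.IsFrame fY := heY.res _
    have hfZ : InvX.IsFrame fZ := heZ.res _
    by_cases hxk : x ∈ Set.range k
    · have hq : InvX.IsFrame (ψ.hom.app (k ⁻¹ᵁ U) (pl hi fY)) := (isFrame_pl hi hfY).map_iso ψ
      obtain ⟨lam, hlam⟩ := (isFrame_pl hj hfZ).exists_coord le_rfl (ψ.hom.app (k ⁻¹ᵁ U) (pl hi fY))
      rw [res_self] at hlam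
      have hlamu : IsUnit lam := TorCov.isUnit_coord (isFrame_pl hj hfZ) hq hlam
      obtain ⟨Lam, rfl⟩ := hk U hU lam
      let U' := X.basicOpen Lam
      have hU' : U' ≤ U := X.basicOpen_le Lam
      have hxU' : x ∈ U' := by
        obtain ⟨w, rfl⟩ := hxk
        show w ∈ k ⁻¹ᵁ X.basicOpen Lam
        rw [Scheme.preimage_basicOpen, Scheme.basicOpen_of_isUnit _ hlamu]
        exact hxU
      have hLu : IsUnit (b.app U' (resR hU' Lam)) := (isUnit_resR hU' Lam le_rfl).map _
      refine ⟨U', hxU', res M (a.preimage_mono hU') fY,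
        b.app U' (resR hU' Lam) • res N (b.preimage_mono hU') fZ, hfY.res _, (hfZ.res _).isUnit_smul hLu, ?_⟩
      rw [pl_res hi hU', app_res, hlam, res_smul, pl_smul, pl_res hj hU', rl_app, app_resR' k hU']
    · let U' : X.Opens := U ⊓ ⟨(Set.range k)ᶜ, k.isClosedEmbedding.isClosed_range.isOpen_compl⟩
      exact ⟨U', ⟨hxU, hxk⟩, res M (a.preimage_mono inf_le_left) fY, res N (b.preimage_mono inf_le_left) fZ,
        hfY.res _, hfZ.res _,
        eq_of_empty (M := (Scheme.Modules.pullback j).obj N) (V := k ⁻¹ᵁ U') (fun p hp => hp.2 ⟨p, rfl⟩) _ _⟩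
  choose U hxU eY eZ heY heZ hmatch using hloc
  choose gY hgY using fun x y : X => (heY y).exists_coord (a.preimage_mono (inf_le_right : U x ⊓ U y ≤ U y))
    (res M (a.preimage_mono (inf_le_left : U x ⊓ U y ≤ U x)) (eY x))
  choose gZ hgZ using fun x y : X => (heZ y).exists_coord (b.preimage_mono (inf_le_right : U x ⊓ U y ≤ U y))
    (res N (b.preimage_mono (inf_le_left : U x ⊓ U y ≤ U x)) (eZ x))
  have hr : ∀ x y, rl hi (U x ⊓ U y) (gY x y) = rl hj (U x ⊓ U y) (gZ x y) := fun x y => by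
    refine (isFrame_pl hj (heZ y)).coord_unique (k.preimage_mono (inf_le_right : U x ⊓ U y ≤ U y)) ?_
    have h1 := congrArg (fun m => ψ.hom.app (k ⁻¹ᵁ (U x ⊓ U y)) (pl hi m)) (hgY x y)
    beta_reduce at h1
    rw [pl_smul, pl_res hi (inf_le_left : U x ⊓ U y ≤ U x), pl_res hi (inf_le_right : U x ⊓ U y ≤ U y),
      Scheme.Modules.Hom.app_smul, app_res, app_res, hmatch, hmatch] at h1
    have h2 := congrArg (fun m => pl hj m) (hgZ x y)
    beta_reduce at h2
    rw [pl_smul, pl_res hj (inf_le_left : U x ⊓ U y ≤ U x), pl_res hj (inf_le_right : U x ⊓ U y ≤ U y)] at h2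
    exact h1.symm.trans h2
  choose g hgY' hgZ' using fun x y => P.exists_lift (U x ⊓ U y) (gY x y) (gZ x y) (hr x y)
  have hgu : ∀ x y, IsUnit (g x y) := fun x y => P.isUnit
    (hgY' x y ▸ TorCov.isUnit_coord ((heY y).res _) ((heY x).res _) (hgY x y))
    (hgZ' x y ▸ TorCov.isUnit_coord ((heZ y).res _) ((heZ x).res _) (hgZ x y))
  have hgen : ∀ {T : Scheme.{u}} (c : T ⟶ X) {Q : T.Modules} (e : ∀ x, Γ(Q, c ⁻¹ᵁ U x)),
      (∀ x, InvX.IsFrame (e x)) →
      (∀ x y, res Q (c.preimage_mono (inf_le_left : U x ⊓ U y ≤ U x)) (e x) =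
        c.app (U x ⊓ U y) (g x y) • res Q (c.preimage_mono (inf_le_right : U x ⊓ U y ≤ U y)) (e y)) →
      ∀ (x y z : X) (V : X.Opens) (hx : V ≤ U x) (hy : V ≤ U y) (hz : V ≤ U z),
        c.app V (resR (le_inf hx hz) (g x z)) =
          c.app V (resR (le_inf hy hz) (g y z) * resR (le_inf hx hy) (g x y)) := by
    intro T c Q e he hc x y z V hx hy hz
    have hcW : ∀ x y (hx : V ≤ U x) (hy : V ≤ U y), res Q (c.preimage_mono hx) (e x) =
        c.app V (resR (le_inf hx hy) (g x y)) • res Q (c.preimage_mono hy) (e y) := fun x y hx hy => by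
      have h := congrArg (res Q (c.preimage_mono (le_inf hx hy))) (hc x y)
      rw [res_res, res_smul, res_res, ← app_resR' c (le_inf hx hy)] at h
      exact h
    refine (he z).coord_unique (c.preimage_mono hz) ?_
    rw [← hcW x z hx hz, map_mul, mul_comm, mul_smul, ← hcW y z hy hz, ← hcW x y hx hy]
  let t : H23.CocycleMod.Cocycle U :=
    { g := fun x y => (hgu x y).unit
      trans := fun x y z V hx hy hz => P.ext
        (hgen a eY heY (fun x y => by rw [hgY']; exact hgY x y) x y z V hx hy hz)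
        (hgen b eZ heZ (fun x y => by rw [hgZ']; exact hgZ x y) x y z V hx hy hz) }
  let F : Bool → Scheme.{u} := fun r => cond r Y Z
  let π : ∀ r, F r ⟶ X := fun r => match r with
    | true => a
    | false => b
  let Q : ∀ r, (F r).Modules := fun r => match r with
    | true => M
    | false => N
  let e : ∀ r x, Γ(Q r, π r ⁻¹ᵁ U x) := fun r => match r with
    | true => eY
    | false => eZ
  obtain ⟨L, hL, hiso⟩ := PicGlue.exists_glue π (L := Q) (fun x => ⟨x, hxU x⟩) (e := e)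
    (fun r => match r with
      | true => heY
      | false => heZ) t fun r => match r with
      | true => fun x y => by
          show _ = a.app _ (g x y) • _
          rw [hgY']
          exact hgY x y
      | false => fun x y => by
          show _ = b.app _ (g x y) • _
          rw [hgZ']
          exact hgZ x y
  exact ⟨L, hL, hiso true, hiso false⟩

end Groth.Agent.ClosedUnion
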