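import Groth.Agent.AModX.Res
import Mathlib.AlgebraicGeometry.IdealSheaf.Subscheme

/-!
A scheme which is the union of two closed subschemes: functions are compatible pairs of functions.
-/

set_option autoImplicit false
set_option linter.style.haveILetI false
set_option linter.unusedSectionVars false
set_option backward.isDefEq.respectTransparency false
set_option backward.isDefEq.respectTransparency.types false

universe u

open CategoryTheory AlgebraicGeometry TopologicalSpace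

namespace Groth.Agent.ClosedUnion

open Groth.Agent Groth.Agent.AModX

variable {X Y Z W : Scheme.{u}}

theorem preimage_le_of_comp {i : W ⟶ Y} {a : Y ⟶ X} {k : W ⟶ X} (h : i ≫ a = k) (U : X.Opens) :
    k ⁻¹ᵁ U ≤ i ⁻¹ᵁ (a ⁻¹ᵁ U) := by
  subst h; exact le_rfl

/-- Restriction of functions along a factorisation. -/
noncomputable def rl {i : W ⟶ Y} {a : Y ⟶ X} {k : W ⟶ X} (h : i ≫ a = k) (U : X.Opens) :
    Γ(Y, a ⁻¹ᵁ U) →+* Γ(W, k ⁻¹ᵁ U) :=
  (i.appLE (a ⁻¹ᵁ U) (k ⁻¹ᵁ U) (preimage_le_of_comp h U)).hom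

theorem rl_app {i : W ⟶ Y} {a : Y ⟶ X} {k : W ⟶ X} (h : i ≫ a = k) (U : X.Opens) (f : Γ(X, U)) :
    rl h U (a.app U f) = k.app U f := by
  subst h
  show (i.appLE (a ⁻¹ᵁ U) (i ⁻¹ᵁ (a ⁻¹ᵁ U)) le_rfl) (a.app U f) = (i ≫ a).app U f
  rw [← Scheme.Hom.app_eq_appLE]
  rfl

theorem rl_resR {i : W ⟶ Y} {a : Y ⟶ X} {k : W ⟶ X} (h : i ≫ a = k) {U V : X.Opens} (hVU : V ≤ U)
    (y : Γ(Y, a ⁻¹ᵁ U)) :
    rl h V (resR (a.preimage_mono hVU) y) = resR (k.preimage_mono hVU) (rl h U y) := by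
  subst h
  show (i.appLE (a ⁻¹ᵁ V) (i ⁻¹ᵁ (a ⁻¹ᵁ V)) le_rfl) (resR (a.preimage_mono hVU) y) =
    resR _ ((i.appLE (a ⁻¹ᵁ U) (i ⁻¹ᵁ (a ⁻¹ᵁ U)) le_rfl) y)
  rw [← Scheme.Hom.app_eq_appLE, ← Scheme.Hom.app_eq_appLE]
  exact ConcreteCategory.congr_hom (i.naturality (homOfLE (a.preimage_mono hVU)).op) y

theorem app_resR' (f : Y ⟶ X) {U V : X.Opens} (h : V ≤ U) (x : Γ(X, U)) :
    f.app V (resR h x) = resR (f.preimage_mono h) (f.app U x) :=
  ConcreteCategory.congr_hom (f.naturality (homOfLE h).op) x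

/-- Functions on `X` are the pairs of functions on `Y` and on `Z` which agree on `W`. -/
structure IsPatch {a : Y ⟶ X} {b : Z ⟶ X} {i : W ⟶ Y} {j : W ⟶ Z} {k : W ⟶ X}
    (hi : i ≫ a = k) (hj : j ≫ b = k) : Prop where
  eq_zero : ∀ (U : X.Opens) (f : Γ(X, U)), a.app U f = 0 → b.app U f = 0 → f = 0
  exists_lift : ∀ (U : X.Opens) (y : Γ(Y, a ⁻¹ᵁ U)) (z : Γ(Z, b ⁻¹ᵁ U)),
    rl hi U y = rl hj U z → ∃ f : Γ(X, U), a.app U f = y ∧ b.app U f = z

variable {a : Y ⟶ X} {b : Z ⟶ X} {i : W ⟶ Y} {j : W ⟶ Z} {k : W ⟶ X}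
  {hi : i ≫ a = k} {hj : j ≫ b = k}

theorem IsPatch.ext (P : IsPatch hi hj) {U : X.Opens} {f g : Γ(X, U)} (h1 : a.app U f = a.app U g)
    (h2 : b.app U f = b.app U g) : f = g :=
  sub_eq_zero.1 (P.eq_zero U _ (by rw [map_sub, h1, sub_self]) (by rw [map_sub, h2, sub_self]))

theorem IsPatch.isUnit (P : IsPatch hi hj) {U : X.Opens} {f : Γ(X, U)} (h1 : IsUnit (a.app U f))
    (h2 : IsUnit (b.app U f)) : IsUnit f := by
  obtain ⟨y, hy⟩ := h1.exists_right_inv
  obtain ⟨z, hz⟩ := h2.exists_right_inv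
  have hy' : k.app U f * rl hi U y = 1 := by rw [← rl_app hi U f, ← map_mul, hy, map_one]
  have hz' : k.app U f * rl hj U z = 1 := by rw [← rl_app hj U f, ← map_mul, hz, map_one]
  obtain ⟨g, hgy, hgz⟩ := P.exists_lift U y z (left_inv_eq_right_inv (mul_comm (rl hi U y) _ ▸ hy') hz')
  refine IsUnit.of_mul_eq_one g (P.ext ?_ ?_)
  · rw [map_mul, map_one, hgy, hy]
  · rw [map_mul, map_one, hgz, hz]

theorem isPatch_of_affine (h0 : ∀ (U : X.Opens), IsAffineOpen U → ∀ f : Γ(X, U),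
      a.app U f = 0 → b.app U f = 0 → f = 0)
    (hl : ∀ (U : X.Opens), IsAffineOpen U → ∀ (y : Γ(Y, a ⁻¹ᵁ U)) (z : Γ(Z, b ⁻¹ᵁ U)),
      rl hi U y = rl hj U z → ∃ f : Γ(X, U), a.app U f = y ∧ b.app U f = z) : IsPatch hi hj := by
  have hcov : ∀ (U : X.Opens) (p : X), p ∈ U → ∃ V : X.Opens, IsAffineOpen V ∧ p ∈ V ∧ V ≤ U := fun U p hp => by
    obtain ⟨_, ⟨V, hV, rfl⟩, hpV, hVU⟩ := X.isBasis_affineOpens.exists_subset_of_mem_open hp U.2
    exact ⟨V, hV, hpV, hVU⟩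
  have hz : ∀ (U : X.Opens) (f : Γ(X, U)), a.app U f = 0 → b.app U f = 0 → f = 0 := fun U f h1 h2 => by
    refine eq_of_locally (M := Coh.structureModule X) f 0 fun p hp => ?_
    obtain ⟨V, hV, hpV, hVU⟩ := hcov U p hp
    refine ⟨V, hVU, hpV, ?_⟩
    show resR hVU f = resR hVU 0
    rw [map_zero]
    exact h0 V hV _ (by rw [app_resR', h1, map_zero]) (by rw [app_resR', h2, map_zero])
  refine ⟨hz, fun U y z h => ?_⟩
  choose V hV hpV hVU using fun p : {p : X // p ∈ U} => hcov U p.1 p.2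
  have hloc : ∀ p, ∃ f : Γ(X, V p), a.app (V p) f = resR (a.preimage_mono (hVU p)) y ∧
      b.app (V p) f = resR (b.preimage_mono (hVU p)) z := fun p =>
    hl _ (hV p) _ _ (by rw [rl_resR hi (hVU p), rl_resR hj (hVU p), h])
  choose f hfy hfz using hloc
  obtain ⟨g, hg, -⟩ := existsUnique_glue (M := Coh.structureModule X) (V := U) V hVU
    (fun p hp => ⟨⟨p, hp⟩, hpV _⟩) f fun p q => by
      show resR inf_le_left (f p) = resR inf_le_right (f q)
      refine sub_eq_zero.1 (hz _ _ ?_ ?_)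
      · rw [map_sub, app_resR' a (inf_le_left : V p ⊓ V q ≤ V p), app_resR' a (inf_le_right : V p ⊓ V q ≤ V q),
          hfy, hfy, resR_resR, resR_resR, sub_self]
      · rw [map_sub, app_resR' b (inf_le_left : V p ⊓ V q ≤ V p), app_resR' b (inf_le_right : V p ⊓ V q ≤ V q),
          hfz, hfz, resR_resR, resR_resR, sub_self]
  have hg' : ∀ p, resR (hVU p) (g : Γ(X, U)) = f p := hg
  refine ⟨g, ?_, ?_⟩
  · refine eq_of_locally (M := Coh.structureModule Y) _ _ fun p hp => ?_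
    refine ⟨a ⁻¹ᵁ V ⟨a p, hp⟩, a.preimage_mono (hVU _), hpV _, ?_⟩
    show resR _ (a.app U g) = resR _ y
    rw [← app_resR' a (hVU _), hg', hfy]
  · refine eq_of_locally (M := Coh.structureModule Z) _ _ fun p hp => ?_
    refine ⟨b ⁻¹ᵁ V ⟨b p, hp⟩, b.preimage_mono (hVU _), hpV _, ?_⟩
    show resR _ (b.app U g) = resR _ z
    rw [← app_resR' b (hVU _), hg', hfz]

/-- The union of two closed subschemes with intersection of ideals zero. -/
theorem isPatch_subscheme (I J : X.IdealSheafData) (hIJ : I ⊓ J = ⊥) :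
    IsPatch (a := I.subschemeι) (b := J.subschemeι) (k := (I ⊔ J).subschemeι)
      (i := Scheme.IdealSheafData.inclusion (le_sup_left : I ≤ I ⊔ J))
      (j := Scheme.IdealSheafData.inclusion (le_sup_right : J ≤ I ⊔ J))
      (Scheme.IdealSheafData.inclusion_subschemeι _) (Scheme.IdealSheafData.inclusion_subschemeι _) := by
  have hker : ∀ (K : X.IdealSheafData) (U : X.Opens) (hU : IsAffineOpen U) (f : Γ(X, U)),
      K.subschemeι.app U f = 0 ↔ f ∈ K.ideal ⟨U, hU⟩ := fun K U hU f => by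
    rw [← K.ker_subschemeι_app ⟨U, hU⟩]
    exact RingHom.mem_ker.symm
  refine isPatch_of_affine (fun U hU f h1 h2 => ?_) fun U hU y z h => ?_
  · have hm : f ∈ (I ⊓ J).ideal ⟨U, hU⟩ := by
      rw [Scheme.IdealSheafData.ideal_inf]
      exact ⟨(hker I U hU f).1 h1, (hker J U hU f).1 h2⟩
    rw [hIJ, Scheme.IdealSheafData.ideal_bot] at hm
    exact hm
  · obtain ⟨f1, hf1⟩ := I.subschemeι_app_surjective ⟨U, hU⟩ y
    obtain ⟨f2, hf2⟩ := J.subschemeι_app_surjective ⟨U, hU⟩ z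
    have hd : f1 - f2 ∈ (I ⊔ J).ideal ⟨U, hU⟩ := by
      refine (hker _ U hU _).1 ?_
      rw [map_sub, ← rl_app (Scheme.IdealSheafData.inclusion_subschemeι le_sup_left) U f1,
        ← rl_app (Scheme.IdealSheafData.inclusion_subschemeι le_sup_right) U f2, hf1, hf2, h, sub_self]
    rw [Scheme.IdealSheafData.ideal_sup, Pi.sup_apply] at hd
    obtain ⟨p, hp, q, hq, hpq⟩ := Submodule.mem_sup.1 hd
    refine ⟨f1 - p, ?_, ?_⟩
    · rw [map_sub, (hker I U hU p).2 hp, sub_zero]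
      exact hf1
    · rw [show f1 - p = f2 + q by linear_combination -hpq, map_add, (hker J U hU q).2 hq, add_zero]
      exact hf2

end Groth.Agent.ClosedUnion
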